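import Mathlib
import Cfsg.Agent.Helper45.C3SF

/-!
# Extension-field subgroups of type `GU_d(q).2` in `Sp_{2d}(q)`: basic definitions (for S5976)

`AData y δ`: `y² = δ` and `y* = -y` for the standard alternating form.
-/

set_option autoImplicit false
set_option linter.unusedSectionVars false
set_option linter.unusedVariables false

namespace Cfsg.Agent.Helper43.EF

open Matrix Cfsg Cfsg.Geo Cfsg.Agent.Helper13 Cfsg.Agent.Helper45.C3S

variable {F : Type*} [Field F] {d : ℕ}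

local notation "Vec" => (Fin d ⊕ Fin d → F)
local notation "Mat" => Matrix (Fin d ⊕ Fin d) (Fin d ⊕ Fin d) F
local notation "⟪" x ", " y "⟫" => Cfsg.sympForm d F x y

/-- `y² = δ` and `y` is anti-self-adjoint for the standard alternating form -/
structure AData (y : Mat) (δ : F) : Prop where
  sq : y * y = δ • (1 : Mat)
  adj : ∀ u v : Vec, ⟪y *ᵥ u, v⟫ = -⟪u, y *ᵥ v⟫

theorem adata_of_sdata {θ : Mat} {δ : F} (hs : SData θ δ) : AData θ δ := ⟨hs.sq, hs.adj⟩

theorem gl_mul_inv (g : GL (Fin d ⊕ Fin d) F) :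
    (g : Mat) * ((g⁻¹ : GL (Fin d ⊕ Fin d) F) : Mat) = 1 := by
  rw [← Units.val_mul, mul_inv_cancel, Units.val_one]

theorem gl_inv_mul (g : GL (Fin d ⊕ Fin d) F) :
    ((g⁻¹ : GL (Fin d ⊕ Fin d) F) : Mat) * (g : Mat) = 1 := by
  rw [← Units.val_mul, inv_mul_cancel, Units.val_one]

theorem sp_inv {g : GL (Fin d ⊕ Fin d) F} (hg : g ∈ Cfsg.spGL d F) (u v : Vec) :
    ⟪((g⁻¹ : GL (Fin d ⊕ Fin d) F) : Mat) *ᵥ u, v⟫ = ⟪u, (g : Mat) *ᵥ v⟫ := by
  have h := (mem_spGL_iff g).1 hg (((g⁻¹ : GL (Fin d ⊕ Fin d) F) : Mat) *ᵥ u) v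
  rw [Matrix.mulVec_mulVec, gl_mul_inv, Matrix.one_mulVec] at h
  exact h.symm

/-- conjugating by a symplectic matrix preserves `AData` -/
theorem AData.conj {y : Mat} {δ : F} (hy : AData y δ) {g : GL (Fin d ⊕ Fin d) F}
    (hg : g ∈ Cfsg.spGL d F) :
    AData ((g : Mat) * y * ((g⁻¹ : GL (Fin d ⊕ Fin d) F) : Mat)) δ := by
  constructor
  · calc (g : Mat) * y * ((g⁻¹ : GL (Fin d ⊕ Fin d) F) : Mat) *
          ((g : Mat) * y * ((g⁻¹ : GL (Fin d ⊕ Fin d) F) : Mat))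
        = (g : Mat) * y * (((g⁻¹ : GL (Fin d ⊕ Fin d) F) : Mat) * (g : Mat)) * y *
            ((g⁻¹ : GL (Fin d ⊕ Fin d) F) : Mat) := by simp only [mul_assoc]
      _ = (g : Mat) * (y * y) * ((g⁻¹ : GL (Fin d ⊕ Fin d) F) : Mat) := by
          rw [gl_inv_mul, mul_one, mul_assoc (g : Mat)]
      _ = δ • (1 : Mat) := by
          rw [hy.sq, Matrix.mul_smul, mul_one, Matrix.smul_mul, gl_mul_inv]
  · intro u v
    have hgi : (g⁻¹ : GL (Fin d ⊕ Fin d) F) ∈ Cfsg.spGL d F := (Cfsg.spGL d F).inv_mem hg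
    rw [← Matrix.mulVec_mulVec, ← Matrix.mulVec_mulVec, ← Matrix.mulVec_mulVec,
      ← Matrix.mulVec_mulVec]
    have h1 := sp_inv hgi (y *ᵥ (((g⁻¹ : GL (Fin d ⊕ Fin d) F) : Mat) *ᵥ u)) v
    rw [inv_inv] at h1
    rw [h1, hy.adj]
    rw [sp_inv hg u (y *ᵥ (((g⁻¹ : GL (Fin d ⊕ Fin d) F) : Mat) *ᵥ v))]

/-- conjugating by a symplectic matrix preserves `SData` -/
theorem sdata_conj {θ : Mat} {δ : F} (hs : SData θ δ) {g : GL (Fin d ⊕ Fin d) F}
    (hg : g ∈ Cfsg.spGL d F) :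
    SData ((g : Mat) * θ * ((g⁻¹ : GL (Fin d ⊕ Fin d) F) : Mat)) δ :=
  ⟨((adata_of_sdata hs).conj hg).sq, hs.irr, ((adata_of_sdata hs).conj hg).adj, hs.two⟩

/-- an invertible matrix anticommuting with `k` normalises `K = F[k]` -/
theorem mem_normalizer_of_anticomm (K : Subalgebra F Mat) {k : Mat} (hkK : k ∈ K)
    (hgen : ∀ x ∈ K, ∃ a b : F, x = a • (1 : Mat) + b • k)
    (g : GL (Fin d ⊕ Fin d) F) (hg : (g : Mat) * k = -(k * (g : Mat))) :
    g ∈ Cfsg.Geo.subalgebraNormalizer K := by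
  have hgi := gl_mul_inv g
  have hig := gl_inv_mul g
  have hconj : ∀ a b : F, (g : Mat) * (a • (1 : Mat) + b • k) *
      ((g⁻¹ : GL (Fin d ⊕ Fin d) F) : Mat) = a • (1 : Mat) - b • k := by
    intro a b
    rw [mul_add, Matrix.mul_smul, Matrix.mul_smul, mul_one, hg, add_mul, Matrix.smul_mul,
      Matrix.smul_mul, hgi, neg_mul, mul_assoc, hgi, mul_one, smul_neg, sub_eq_add_neg]
  have hmem : ∀ a b : F, a • (1 : Mat) - b • k ∈ K := fun a b =>
    K.sub_mem (K.smul_mem K.one_mem _) (K.smul_mem hkK _)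
  intro x
  show x ∈ K ↔ (g : Mat) * x * ((g⁻¹ : GL (Fin d ⊕ Fin d) F) : Mat) ∈ K
  constructor
  · intro hx
    obtain ⟨a, b, rfl⟩ := hgen x hx
    rw [hconj]
    exact hmem a b
  · intro hy
    obtain ⟨a, b, hab⟩ := hgen _ hy
    have h3 : x = ((g⁻¹ : GL (Fin d ⊕ Fin d) F) : Mat) *
        ((g : Mat) * x * ((g⁻¹ : GL (Fin d ⊕ Fin d) F) : Mat)) * (g : Mat) := by
      rw [mul_assoc, mul_assoc, hig, mul_one, ← mul_assoc, hig, one_mul]
    have h4 : (g : Mat) * (a • (1 : Mat) - b • k) * ((g⁻¹ : GL (Fin d ⊕ Fin d) F) : Mat)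
        = a • (1 : Mat) + b • k := by
      have := hconj a (-b)
      rw [neg_smul, sub_neg_eq_add, ← sub_eq_add_neg] at this
      exact this
    have h5 : x = a • (1 : Mat) - b • k := by
      rw [h3, hab, ← h4, mul_assoc, mul_assoc, hig, mul_one, ← mul_assoc, hig, one_mul]
    rw [h5]
    exact hmem a b

/-- `y* = -y` from `yᵀ J = -(J y)` -/
theorem adj_of_transpose (y : Mat) (h : yᵀ * Matrix.J (Fin d) F = -(Matrix.J (Fin d) F * y))
    (u v : Vec) : ⟪y *ᵥ u, v⟫ = -⟪u, y *ᵥ v⟫ := by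
  rw [sympForm_def, sympForm_def, Matrix.mulVec_mulVec, Matrix.dotProduct_mulVec,
    Matrix.vecMul_mulVec, ← Matrix.dotProduct_mulVec, h, Matrix.neg_mulVec,
    dotProduct_neg]

/-- the standard `y` with `y² = δ`, `y* = -y` -/
def Y0 (d : ℕ) (δ : F) : Matrix (Fin d ⊕ Fin d) (Fin d ⊕ Fin d) F :=
  Matrix.fromBlocks 0 (δ • 1) 1 0

/-- `a + b·(swap)`-type element: `[[a, b], [b, -a]]` -/
def Sab (d : ℕ) (a b : F) : Matrix (Fin d ⊕ Fin d) (Fin d ⊕ Fin d) F :=
  Matrix.fromBlocks (a • 1) (b • 1) (b • 1) ((-a) • 1)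

theorem adata_Y0 (δ : F) : AData (Y0 d δ) δ := by
  constructor
  · unfold Y0
    rw [Matrix.fromBlocks_multiply, ← Matrix.fromBlocks_one, Matrix.fromBlocks_smul]
    congr 1 <;> simp
  · apply adj_of_transpose
    unfold Y0 Matrix.J
    rw [Matrix.fromBlocks_transpose, Matrix.fromBlocks_multiply, Matrix.fromBlocks_multiply,
      Matrix.fromBlocks_neg]
    congr 1 <;> simp

theorem adata_Sab (a b δ : F) (hab : a * a + b * b = δ) : AData (Sab d a b) δ := by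
  constructor
  · unfold Sab
    rw [Matrix.fromBlocks_multiply, ← Matrix.fromBlocks_one, Matrix.fromBlocks_smul]
    congr 1
    · rw [Matrix.smul_mul, Matrix.smul_mul, Matrix.mul_smul, Matrix.mul_smul, mul_one, smul_smul,
        smul_smul, ← add_smul, hab]
    · rw [Matrix.smul_mul, Matrix.smul_mul, Matrix.mul_smul, Matrix.mul_smul, mul_one, smul_smul,
        smul_smul, ← add_smul, smul_zero]
      rw [show a * b + b * -a = 0 by ring, zero_smul]
    · rw [Matrix.smul_mul, Matrix.smul_mul, Matrix.mul_smul, Matrix.mul_smul, mul_one, smul_smul,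
        smul_smul, ← add_smul, smul_zero]
      rw [show b * a + -a * b = 0 by ring, zero_smul]
    · rw [Matrix.smul_mul, Matrix.smul_mul, Matrix.mul_smul, Matrix.mul_smul, mul_one, smul_smul,
        smul_smul, ← add_smul]
      rw [show b * b + -a * -a = a * a + b * b by ring, hab]
  · apply adj_of_transpose
    unfold Sab Matrix.J
    rw [Matrix.fromBlocks_transpose, Matrix.fromBlocks_multiply, Matrix.fromBlocks_multiply,
      Matrix.fromBlocks_neg]
    congr 1 <;> simp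

/-- `J` anticommutes with `Sab` -/
theorem Y0_neg_one_mul_Sab (a b : F) :
    Y0 d (-1 : F) * Sab d a b = -(Sab d a b * Y0 d (-1 : F)) := by
  unfold Y0 Sab
  rw [Matrix.fromBlocks_multiply, Matrix.fromBlocks_multiply, Matrix.fromBlocks_neg]
  congr 1 <;> simp

/-- a block-diagonal `diag(E, E)` commutes with `Y0` -/
theorem diag_mul_Y0 (E : Matrix (Fin d) (Fin d) F) (δ : F) :
    Matrix.fromBlocks E 0 0 E * Y0 d δ = Y0 d δ * Matrix.fromBlocks E 0 0 E := by
  unfold Y0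
  rw [Matrix.fromBlocks_multiply, Matrix.fromBlocks_multiply]
  congr 1 <;> simp

/-- the centraliser of a matrix in `GL` -/
def commGL (y : Mat) : Subgroup (GL (Fin d ⊕ Fin d) F) where
  carrier := {g | (g : Mat) * y = y * (g : Mat)}
  mul_mem' {a b} ha hb := by
    show ((a * b : GL (Fin d ⊕ Fin d) F) : Mat) * y = y * ((a * b : GL (Fin d ⊕ Fin d) F) : Mat)
    have ha' : (a : Mat) * y = y * (a : Mat) := ha
    have hb' : (b : Mat) * y = y * (b : Mat) := hb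
    rw [Units.val_mul, mul_assoc, hb', ← mul_assoc, ha', mul_assoc]
  one_mem' := by
    show ((1 : GL (Fin d ⊕ Fin d) F) : Mat) * y = y * ((1 : GL (Fin d ⊕ Fin d) F) : Mat)
    rw [Units.val_one, one_mul, mul_one]
  inv_mem' {a} ha := by
    show ((a⁻¹ : GL (Fin d ⊕ Fin d) F) : Mat) * y = y * ((a⁻¹ : GL (Fin d ⊕ Fin d) F) : Mat)
    have ha' : (a : Mat) * y = y * (a : Mat) := ha
    calc ((a⁻¹ : GL (Fin d ⊕ Fin d) F) : Mat) * y
        = ((a⁻¹ : GL (Fin d ⊕ Fin d) F) : Mat) * (y * (a : Mat)) *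
            ((a⁻¹ : GL (Fin d ⊕ Fin d) F) : Mat) := by
          rw [mul_assoc, mul_assoc, gl_mul_inv, mul_one]
      _ = y * ((a⁻¹ : GL (Fin d ⊕ Fin d) F) : Mat) := by
          rw [← ha', ← mul_assoc, gl_inv_mul, one_mul]

theorem mem_commGL {y : Mat} {g : GL (Fin d ⊕ Fin d) F} :
    g ∈ commGL y ↔ (g : Mat) * y = y * (g : Mat) := Iff.rfl

end Cfsg.Agent.Helper43.EF
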