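import Mathlib
import Cfsg.Agent.Helper43.EF.Defs

/-!
# Small pieces for S5976: (NORM), (SQ), (LIN)
-/

set_option autoImplicit false
set_option linter.unusedSectionVars false
set_option linter.unusedVariables false

namespace Cfsg.Agent.Helper43.EF

open Matrix Cfsg Cfsg.Geo Cfsg.Agent.Helper13 Cfsg.Agent.Helper45.C3S

variable {F : Type*} [Field F] {d : ℕ}

local notation "Vec" => (Fin d ⊕ Fin d → F)
local notation "Mat" => Matrix (Fin d ⊕ Fin d) (Fin d ⊕ Fin d) F
local notation "⟪" x ", " y "⟫" => Cfsg.sympForm d F x y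

/-- (NORM) binary quadratic forms over finite fields are universal -/
theorem exists_norm_eq [Fintype F] (h2 : (2 : F) ≠ 0) (δ : F) (hδ : δ ≠ 0) (c : F) :
    ∃ a b : F, a * a - δ * b * b = c := by
  classical
  have hodd : Fintype.card F % 2 = 1 := by
    apply FiniteField.odd_card_of_char_ne_two
    intro h
    haveI : CharP F 2 := by
      have := ringChar.charP F
      rwa [h] at this
    exact h2 (CharTwo.two_eq_zero)
  have hf : (Polynomial.X ^ 2 - Polynomial.C c : Polynomial F).degree = 2 := by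
    rw [Polynomial.degree_X_pow_sub_C (by norm_num)]
    rfl
  have hg : (-(Polynomial.C δ * Polynomial.X ^ 2) : Polynomial F).degree = 2 := by
    rw [Polynomial.degree_neg, Polynomial.degree_C_mul_X_pow 2 hδ]
    rfl
  obtain ⟨a, b, hab⟩ := FiniteField.exists_root_sum_quadratic hf hg hodd
  refine ⟨a, b, ?_⟩
  simp only [Polynomial.eval_sub, Polynomial.eval_pow, Polynomial.eval_X, Polynomial.eval_C,
    Polynomial.eval_neg, Polynomial.eval_mul] at hab
  linear_combination hab

/-- (SQ) a scalar in `Sp` is `±1` -/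
theorem scalar_sq_of_mem (hd : 1 ≤ d) {x : GL (Fin d ⊕ Fin d) F} (hx : x ∈ Cfsg.spGL d F) {z : F}
    (hz : (x : Mat) = z • (1 : Mat)) : z = 1 ∨ z = -1 := by
  have h := (mem_spGL_iff x).1 hx (Pi.single (Sum.inr ⟨0, hd⟩) 1) (Pi.single (Sum.inl ⟨0, hd⟩) 1)
  rw [hz] at h
  simp only [Matrix.smul_mulVec, Matrix.one_mulVec, sympForm_smul_left, sympForm_smul_right,
    sympForm_single_inl_right] at h
  simp only [Pi.smul_apply, smul_eq_mul, Pi.single_eq_same, mul_one] at h
  exact mul_self_eq_one_iff.1 h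

theorem lin_indep_one_theta {θ : Mat} {δ : F} (hs : SData θ δ) (h1 : (1 : Mat) ≠ 0) {c e : F}
    (h : c • (1 : Mat) + e • θ = 0) : c = 0 ∧ e = 0 := by
  have he : e = 0 := by
    by_contra he
    have hθ : θ = (-(c / e)) • (1 : Mat) := by
      have h' : e • θ = (-c) • (1 : Mat) := by
        rw [neg_smul]; exact eq_neg_of_add_eq_zero_right h
      calc θ = e⁻¹ • (e • θ) := by rw [smul_smul, inv_mul_cancel₀ he, one_smul]
        _ = (-(c / e)) • (1 : Mat) := by rw [h', smul_smul]; congr 1; field_simp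
    have hsq := hs.sq
    rw [hθ, Matrix.smul_mul, Matrix.mul_smul, Matrix.one_mul, smul_smul] at hsq
    have h0 : ((-(c / e)) * (-(c / e)) - δ) • (1 : Mat) = 0 := by
      rw [sub_smul, hsq, sub_self]
    rcases smul_eq_zero.1 h0 with h0 | h0
    · exact hs.irr _ (sub_eq_zero.1 h0)
    · exact h1 h0
  subst he
  rw [zero_smul, add_zero] at h
  rcases smul_eq_zero.1 h with h0 | h0
  · exact ⟨h0, rfl⟩
  · exact absurd h0 h1

theorem pow_anticomm {ι : Type*} [Fintype ι] [DecidableEq ι] {X θ : Matrix ι ι F}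
    (h : X * θ = -(θ * X)) (n : ℕ) : X ^ n * θ = (-1 : F) ^ n • (θ * X ^ n) := by
  induction n with
  | zero => simp
  | succ n ih =>
    rw [pow_succ, Matrix.mul_assoc, h, Matrix.mul_neg, ← Matrix.mul_assoc, ih, Matrix.smul_mul,
      Matrix.mul_assoc, pow_succ (-1 : F), mul_smul]
    simp

/-- (LIN) elements of the normaliser with odd power scalar are `K`-linear -/
theorem comm_of_mem_normalizer {θ : Mat} {δ : F} (hs : SData θ δ) (K : Subalgebra F Mat)
    (hθK : θ ∈ K) (hgen : ∀ x ∈ K, ∃ a b : F, x = a • (1 : Mat) + b • θ)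
    {x : GL (Fin d ⊕ Fin d) F} (hx : x ∈ Cfsg.Geo.subalgebraNormalizer K) {r : ℕ} (hr : Odd r)
    {z : F} (hz : ((x ^ r : GL (Fin d ⊕ Fin d) F) : Mat) = z • (1 : Mat)) :
    (x : Mat) * θ = θ * (x : Mat) := by
  by_cases h1 : (1 : Mat) = 0
  · have h0 : ∀ M : Mat, M = 0 := fun M => by rw [← Matrix.mul_one M, h1, Matrix.mul_zero]
    rw [h0 ((x : Mat) * θ), h0 (θ * (x : Mat))]
  have hmem : (x : Mat) * θ * ((x⁻¹ : GL (Fin d ⊕ Fin d) F) : Mat) ∈ K := (hx θ).1 hθK
  obtain ⟨a, b, hab⟩ := hgen _ hmem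
  have hxx : ((x⁻¹ : GL (Fin d ⊕ Fin d) F) : Mat) * (x : Mat) = 1 := gl_inv_mul x
  have hxx' : (x : Mat) * ((x⁻¹ : GL (Fin d ⊕ Fin d) F) : Mat) = 1 := gl_mul_inv x
  -- square
  have hsq : ((x : Mat) * θ * ((x⁻¹ : GL (Fin d ⊕ Fin d) F) : Mat)) *
      ((x : Mat) * θ * ((x⁻¹ : GL (Fin d ⊕ Fin d) F) : Mat)) = δ • (1 : Mat) := by
    calc _ = (x : Mat) * θ * (((x⁻¹ : GL (Fin d ⊕ Fin d) F) : Mat) * (x : Mat)) * θ *
          ((x⁻¹ : GL (Fin d ⊕ Fin d) F) : Mat) := by simp only [Matrix.mul_assoc]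
      _ = (x : Mat) * (θ * θ) * ((x⁻¹ : GL (Fin d ⊕ Fin d) F) : Mat) := by
          rw [hxx, Matrix.mul_one]; simp only [Matrix.mul_assoc]
      _ = δ • (1 : Mat) := by
          rw [hs.sq, Matrix.mul_smul, Matrix.smul_mul, Matrix.mul_one, hxx']
  have hsq2 : (a • (1 : Mat) + b • θ) * (a • (1 : Mat) + b • θ) =
      (a * a + b * b * δ) • (1 : Mat) + (2 * a * b) • θ := by
    simp only [Matrix.add_mul, Matrix.mul_add, Matrix.smul_mul, Matrix.mul_smul, Matrix.one_mul,
      Matrix.mul_one, hs.sq]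
    ext i j
    simp only [Matrix.add_apply, Matrix.smul_apply, smul_eq_mul]
    ring
  rw [hab, hsq2] at hsq
  have hlin : (a * a + b * b * δ - δ) • (1 : Mat) + (2 * a * b) • θ = 0 := by
    rw [sub_smul, ← hsq]; abel
  obtain ⟨hc, he⟩ := lin_indep_one_theta hs h1 hlin
  have hb0 : b ≠ 0 := by
    rintro rfl
    apply hs.irr a
    linear_combination hc
  have ha0 : a = 0 := by
    have : a * b = 0 := by
      have h2 := hs.two
      have : 2 * (a * b) = 0 := by linear_combination he
      rcases mul_eq_zero.1 this with h | h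
      · exact absurd h h2
      · exact h
    rcases mul_eq_zero.1 this with h | h
    · exact h
    · exact absurd h hb0
  subst ha0
  have hbb : b * b = 1 := by
    have hδ := hs.delta_ne
    have : (b * b - 1) * δ = 0 := by linear_combination hc
    rcases mul_eq_zero.1 this with h | h
    · exact sub_eq_zero.1 h
    · exact absurd h hδ
  rw [zero_smul, zero_add] at hab
  have hxθ : (x : Mat) * θ = b • (θ * (x : Mat)) := by
    calc (x : Mat) * θ = (x : Mat) * θ * (((x⁻¹ : GL (Fin d ⊕ Fin d) F) : Mat) * (x : Mat)) := by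
          rw [hxx, Matrix.mul_one]
      _ = ((x : Mat) * θ * ((x⁻¹ : GL (Fin d ⊕ Fin d) F) : Mat)) * (x : Mat) := by
          simp only [Matrix.mul_assoc]
      _ = b • (θ * (x : Mat)) := by rw [hab, Matrix.smul_mul]
  rcases mul_self_eq_one_iff.1 hbb with rfl | rfl
  · rw [hxθ, one_smul]
  · exfalso
    have hanti : (x : Mat) * θ = -(θ * (x : Mat)) := by rw [hxθ, neg_smul, one_smul]
    have hp := pow_anticomm hanti r
    rw [← Units.val_pow_eq_pow_val, hz, hr.neg_one_pow, Matrix.smul_mul, Matrix.mul_smul,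
      Matrix.one_mul, Matrix.mul_one, neg_smul, one_smul] at hp
    have h2z : (2 * z) • θ = 0 := by
      rw [mul_smul, two_smul]
      nth_rewrite 1 [hp]
      exact neg_add_cancel _
    have hz0 : z ≠ 0 := by
      rintro rfl
      rw [zero_smul] at hz
      have := gl_mul_inv (x ^ r)
      rw [hz, Matrix.zero_mul] at this
      exact h1 this.symm
    rcases smul_eq_zero.1 h2z with h | h
    · rcases mul_eq_zero.1 h with h | h
      · exact hs.two h
      · exact hz0 h
    · have := hs.sq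
      rw [h, Matrix.mul_zero] at this
      rcases smul_eq_zero.1 this.symm with h' | h'
      · exact hs.delta_ne h'
      · exact h1 h'

end Cfsg.Agent.Helper43.EF
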