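import Mathlib
import Cfsg.Agent.Helper43.EF.Defs
import Cfsg.Agent.Helper43.EF.Small
import Cfsg.Agent.Helper43.SpOrthA
import Cfsg.Agent.Helper45.GUCard
import Cfsg.Agent.Helper35.EFORD
import Cfsg.Agent.Helper55.EFSTD
import Cfsg.Agent.Helper10.EFTV
import Cfsg.Agent.Helper10.EFTRANS
import Cfsg.Agent.Helper35.EFIDX
import Cfsg.Agent.Helper85.EFSTD1
import Cfsg.Agent.Helper67.EFDERodd
import Cfsg.Agent.Helper11.EFDER4
import Cfsg.Agent.Helper89.EFEMB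

/-!
# Pieces for S5976 (collected from the team; see the individual files)
-/

set_option autoImplicit false
set_option linter.unusedSectionVars false
set_option linter.unusedVariables false

namespace Cfsg.Agent.Helper43.EF

open Matrix Cfsg Cfsg.Geo Cfsg.Agent.Helper13 Cfsg.Agent.Helper45.C3S

variable {F : Type*} [Field F] {d : ℕ}

local notation "Vec" => (Fin d ⊕ Fin d → F)
local notation "Mat" => Matrix (Fin d ⊕ Fin d) (Fin d ⊕ Fin d) F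
local notation "⟪" x ", " y "⟫" => Cfsg.sympForm d F x y

/-- the order of `GU_d(q)` -/
def guOrd (q d : ℕ) : ℕ :=
  q ^ (d * (d - 1) / 2) * ∏ i ∈ Finset.range d, (if Even i then q ^ (i + 1) + 1 else q ^ (i + 1) - 1)

/-! ## pieces -/

/-- (STD) every `y` with `y² = δ ≠ 0`, `y* = -y` is `Sp`-conjugate to the standard `Y0` -/
theorem exists_conj_Y0 (h2 : (2 : F) ≠ 0) {y : Mat} {δ : F} (hδ : δ ≠ 0) (hy : AData y δ)
    (hnorm : ∀ c : F, ∃ a b : F, a * a - δ * b * b = c) :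
    ∃ g ∈ Cfsg.spGL d F, ((g⁻¹ : GL (Fin d ⊕ Fin d) F) : Mat) * y * (g : Mat) = Y0 d δ :=
  Cfsg.Agent.Helper55.EF.exists_conj_Y0 h2 hδ hy hnorm

/-- (STD1) every involution of `Sp` is `Sp`-conjugate to a block-diagonal `diag(E, E)`,
`E` diagonal with entries `±1` -/
theorem exists_conj_diag (h2 : (2 : F) ≠ 0) {x : GL (Fin d ⊕ Fin d) F} (hx : x ∈ Cfsg.spGL d F)
    (hx2 : (x : Mat) * (x : Mat) = 1) :
    ∃ g ∈ Cfsg.spGL d F, ∃ ε : Fin d → F,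
      ((g⁻¹ : GL (Fin d ⊕ Fin d) F) : Mat) * (x : Mat) * (g : Mat) =
        Matrix.fromBlocks (Matrix.diagonal ε) 0 0 (Matrix.diagonal ε) :=
  Cfsg.Agent.Helper85.EF.exists_conj_diag h2 hx hx2

/-- (TV) a transvection is a derangement -/
theorem exists_tv_derangement (h2 : (2 : F) ≠ 0) (hd : 1 ≤ d) {p : ℕ} [CharP F p]
    {θ : Mat} {δ : F} (hs : SData θ δ) (K : Subalgebra F Mat) (hθK : θ ∈ K)
    (hgen : ∀ x ∈ K, ∃ a b : F, x = a • (1 : Mat) + b • θ) :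
    ∃ x ∈ Cfsg.spGL d F, x ^ p = 1 ∧ (∀ z : F, (x : Mat) ≠ z • (1 : Mat)) ∧
      ∀ g ∈ Cfsg.spGL d F, g⁻¹ * x * g ∉ Cfsg.Geo.subalgebraNormalizer K :=
  Cfsg.Agent.Helper10.EF.exists_tv_derangement h2 hd hs K hθK hgen

/-- (EMB) `GU_d(q)` embeds in the centraliser of the standard `Y0` in `Sp` -/
theorem guOrd_dvd_card_comm_Y0 [Fintype F] {q : ℕ} (hq : Fintype.card F = q) (h2 : (2 : F) ≠ 0)
    {δ : F} (hirr : ∀ γ : F, γ * γ ≠ δ) :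
    guOrd q d ∣ Nat.card ↥(commGL (Y0 d δ) ⊓ Cfsg.spGL d F) :=
  Cfsg.Agent.Helper89.EF.guOrd_dvd_card_comm_Y0 hq h2 hirr

/-- (IDX) the primes dividing the index -/
theorem dvd_of_dvd_relIndex [Fintype F] {p : ℕ} [Fact p.Prime] [CharP F p] {q : ℕ}
    (hq : Fintype.card F = q) (hd : 1 ≤ d) (N : Subgroup (GL (Fin d ⊕ Fin d) F))
    (hdvd : guOrd q d ∣ Nat.card ↥(N ⊓ Cfsg.spGL d F))
    (r : ℕ) [Fact r.Prime] (hr : r ∣ N.relIndex (Cfsg.spGL d F)) :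
    r = p ∨ ∃ j, 1 ≤ j ∧ j ≤ d ∧ ((Even j ∧ r ∣ q ^ j + 1) ∨ (Odd j ∧ r ∣ q ^ j - 1)) :=
  Cfsg.Agent.Helper35.EF.dvd_of_dvd_relIndex hq hd N hdvd r hr

/-- (ORD) the multiplicative order of `q` mod `r` -/
theorem ord_cases {q r : ℕ} (hr : r.Prime) (hr2 : r ≠ 2) (hq : 2 ≤ q) {j d : ℕ} (hj1 : 1 ≤ j)
    (hjd : j ≤ d) (h : (Even j ∧ r ∣ q ^ j + 1) ∨ (Odd j ∧ r ∣ q ^ j - 1)) :
    (Odd (orderOf (q : ZMod r)) ∧ orderOf (q : ZMod r) ≤ d) ∨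
      (4 ∣ orderOf (q : ZMod r) ∧ orderOf (q : ZMod r) ≤ 2 * d) :=
  Cfsg.Agent.Helper35.EF.ord_cases hr hr2 hq hj1 hjd h

/-- (DERodd) derangements of odd prime order `r ≠ p`, `i` odd -/
theorem exists_derangement_odd [Fintype F] {p : ℕ} [Fact p.Prime] [CharP F p] (h2 : (2 : F) ≠ 0)
    (r : ℕ) [Fact r.Prime] (hrp : r ≠ p) (hr2 : r ≠ 2)
    (hi : Odd (orderOf ((Fintype.card F : ℕ) : ZMod r)))
    (hid : orderOf ((Fintype.card F : ℕ) : ZMod r) ≤ d) :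
    ∃ x ∈ Cfsg.spGL d F, x ^ r = 1 ∧ x ≠ 1 ∧
      ∀ (θ : Mat) (δ : F), SData θ δ → (x : Mat) * θ ≠ θ * (x : Mat) :=
  Cfsg.Agent.Helper67.EF.exists_derangement_odd h2 r hrp hr2 hi hid

/-- (DER4) derangements of odd prime order `r ≠ p`, `4 ∣ i` -/
theorem exists_derangement_four [Fintype F] {p : ℕ} [Fact p.Prime] [CharP F p] (h2 : (2 : F) ≠ 0)
    (r : ℕ) [Fact r.Prime] (hrp : r ≠ p) (hr2 : r ≠ 2)
    (hi : 4 ∣ orderOf ((Fintype.card F : ℕ) : ZMod r))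
    (hid : orderOf ((Fintype.card F : ℕ) : ZMod r) ≤ 2 * d) :
    ∃ x ∈ Cfsg.spGL d F, x ^ r = 1 ∧ x ≠ 1 ∧
      ∀ (θ : Mat) (δ : F), SData θ δ → (x : Mat) * θ ≠ θ * (x : Mat) :=
  Cfsg.Agent.Helper11.EF.exists_derangement_four h2 r hrp hr2 hi hid

/-- (TRANS) transport of the order bound to `N(K)` -/
theorem guOrd_dvd_card_normalizer [Fintype F] {q : ℕ} (hq : Fintype.card F = q)
    {θ : Mat} {δ : F} (hs : SData θ δ) (K : Subalgebra F Mat)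
    (hθK : θ ∈ K) (hgen : ∀ x ∈ K, ∃ a b : F, x = a • (1 : Mat) + b • θ)
    (hstd : ∃ g ∈ Cfsg.spGL d F, ((g⁻¹ : GL (Fin d ⊕ Fin d) F) : Mat) * θ * (g : Mat) = Y0 d δ)
    (hemb : guOrd q d ∣ Nat.card ↥(commGL (Y0 d δ) ⊓ Cfsg.spGL d F)) :
    guOrd q d ∣ Nat.card ↥(Cfsg.Geo.subalgebraNormalizer K ⊓ Cfsg.spGL d F) :=
  Cfsg.Agent.Helper10.EF.dvd_card_normalizer_of_dvd K hgen hstd hemb

end Cfsg.Agent.Helper43.EF
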