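import Mathlib
import Cfsg.Agent.Helper43.EF.Pieces

/-!
# S5976: final assembly
-/

set_option autoImplicit false
set_option linter.unusedSectionVars false
set_option linter.unusedVariables false

namespace Cfsg.Agent.Helper43.EF

open Matrix Cfsg Cfsg.Geo Cfsg.Agent.Helper13 Cfsg.Agent.Helper45.C3S

variable {F : Type*} [Field F] {d : ℕ}

local notation "Vec" => (Fin d ⊕ Fin d → F)
local notation "Mat" => Matrix (Fin d ⊕ Fin d) (Fin d ⊕ Fin d) F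
local notation "⟪" x ", " y "⟫" => Cfsg.sympForm d F x y

theorem two_ne_zero_of_odd_card [Fintype F] (hodd : Odd (Fintype.card F)) : (2 : F) ≠ 0 := by
  intro h
  have hc : ringChar F = 2 := by
    have hdvd : ringChar F ∣ 2 := by
      have h' : ((2 : ℕ) : F) = 0 := by exact_mod_cast h
      exact (ringChar.spec F 2).1 h'
    have hp : (ringChar F).Prime := CharP.char_is_prime F (ringChar F)
    exact (Nat.prime_dvd_prime_iff_eq hp Nat.prime_two).1 hdvd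
  have := FiniteField.even_card_iff_char_two.1 hc
  rcases hodd with ⟨k, hk⟩
  omega

/-- conjugation identities -/
theorem conj_comm_of_comm {g : GL (Fin d ⊕ Fin d) F} {A B : Mat} (h : A * B = B * A) :
    ((g : Mat) * A * ((g⁻¹ : GL (Fin d ⊕ Fin d) F) : Mat)) *
        ((g : Mat) * B * ((g⁻¹ : GL (Fin d ⊕ Fin d) F) : Mat)) =
      ((g : Mat) * B * ((g⁻¹ : GL (Fin d ⊕ Fin d) F) : Mat)) *
        ((g : Mat) * A * ((g⁻¹ : GL (Fin d ⊕ Fin d) F) : Mat)) := by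
  have e : ∀ X Y : Mat, ((g : Mat) * X * ((g⁻¹ : GL (Fin d ⊕ Fin d) F) : Mat)) *
      ((g : Mat) * Y * ((g⁻¹ : GL (Fin d ⊕ Fin d) F) : Mat)) =
      (g : Mat) * (X * Y) * ((g⁻¹ : GL (Fin d ⊕ Fin d) F) : Mat) := by
    intro X Y
    calc ((g : Mat) * X * ((g⁻¹ : GL (Fin d ⊕ Fin d) F) : Mat)) *
        ((g : Mat) * Y * ((g⁻¹ : GL (Fin d ⊕ Fin d) F) : Mat))
        = (g : Mat) * X * (((g⁻¹ : GL (Fin d ⊕ Fin d) F) : Mat) * (g : Mat)) * Y *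
            ((g⁻¹ : GL (Fin d ⊕ Fin d) F) : Mat) := by simp only [mul_assoc]
      _ = (g : Mat) * (X * Y) * ((g⁻¹ : GL (Fin d ⊕ Fin d) F) : Mat) := by
          rw [gl_inv_mul, mul_one, mul_assoc (g : Mat)]
  rw [e, e, h]

theorem conj_anticomm_of_anticomm {g : GL (Fin d ⊕ Fin d) F} {A B : Mat} (h : A * B = -(B * A)) :
    ((g : Mat) * A * ((g⁻¹ : GL (Fin d ⊕ Fin d) F) : Mat)) *
        ((g : Mat) * B * ((g⁻¹ : GL (Fin d ⊕ Fin d) F) : Mat)) =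
      -(((g : Mat) * B * ((g⁻¹ : GL (Fin d ⊕ Fin d) F) : Mat)) *
        ((g : Mat) * A * ((g⁻¹ : GL (Fin d ⊕ Fin d) F) : Mat))) := by
  have e : ∀ X Y : Mat, ((g : Mat) * X * ((g⁻¹ : GL (Fin d ⊕ Fin d) F) : Mat)) *
      ((g : Mat) * Y * ((g⁻¹ : GL (Fin d ⊕ Fin d) F) : Mat)) =
      (g : Mat) * (X * Y) * ((g⁻¹ : GL (Fin d ⊕ Fin d) F) : Mat) := by
    intro X Y
    calc ((g : Mat) * X * ((g⁻¹ : GL (Fin d ⊕ Fin d) F) : Mat)) *
        ((g : Mat) * Y * ((g⁻¹ : GL (Fin d ⊕ Fin d) F) : Mat))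
        = (g : Mat) * X * (((g⁻¹ : GL (Fin d ⊕ Fin d) F) : Mat) * (g : Mat)) * Y *
            ((g⁻¹ : GL (Fin d ⊕ Fin d) F) : Mat) := by simp only [mul_assoc]
      _ = (g : Mat) * (X * Y) * ((g⁻¹ : GL (Fin d ⊕ Fin d) F) : Mat) := by
          rw [gl_inv_mul, mul_one, mul_assoc (g : Mat)]
  rw [e, e, h, Matrix.mul_neg, Matrix.neg_mul]

/-- `A = g B g⁻¹` from `g⁻¹ A g = B` -/
theorem eq_conj_of_inv_conj {g : GL (Fin d ⊕ Fin d) F} {A B : Mat}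
    (h : ((g⁻¹ : GL (Fin d ⊕ Fin d) F) : Mat) * A * (g : Mat) = B) :
    A = (g : Mat) * B * ((g⁻¹ : GL (Fin d ⊕ Fin d) F) : Mat) := by
  rw [← h]
  calc A = ((g : Mat) * ((g⁻¹ : GL (Fin d ⊕ Fin d) F) : Mat)) * A *
        ((g : Mat) * ((g⁻¹ : GL (Fin d ⊕ Fin d) F) : Mat)) := by
        rw [gl_mul_inv, one_mul, mul_one]
    _ = _ := by simp only [mul_assoc]

/-- the involution direction -/
theorem invol_conj [Fintype F] (h2 : (2 : F) ≠ 0) (hd : 1 ≤ d) {θ : Mat} {δ : F} (hs : SData θ δ)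
    (K : Subalgebra F Mat) (hθK : θ ∈ K)
    (hgen : ∀ x ∈ K, ∃ a b : F, x = a • (1 : Mat) + b • θ)
    {x : GL (Fin d ⊕ Fin d) F} (hx : x ∈ Cfsg.spGL d F) {z : F}
    (hz : ((x ^ 2 : GL (Fin d ⊕ Fin d) F) : Mat) = z • (1 : Mat)) :
    ∃ g ∈ Cfsg.spGL d F, g⁻¹ * x * g ∈ Cfsg.Geo.subalgebraNormalizer K := by
  have hδ : δ ≠ 0 := hs.delta_ne
  have hx2 : (x : Mat) * (x : Mat) = z • (1 : Mat) := by
    rw [← hz, pow_two, Units.val_mul]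
  -- θ in standard form
  obtain ⟨g₀, hg₀, hg₀θ⟩ := exists_conj_Y0 h2 hδ (adata_of_sdata hs) (exists_norm_eq h2 δ hδ)
  have hθeq := eq_conj_of_inv_conj hg₀θ
  have hzz : z = 1 ∨ z = -1 :=
    scalar_sq_of_mem hd ((Cfsg.spGL d F).mul_mem hx hx) (by rw [Units.val_mul]; exact hx2)
  rcases hzz with rfl | rfl
  · -- x² = 1
    rw [one_smul] at hx2
    obtain ⟨g₁, hg₁, ε, hg₁x⟩ := exists_conj_diag h2 hx hx2
    have hxeq := eq_conj_of_inv_conj hg₁x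
    refine ⟨g₁ * g₀⁻¹, (Cfsg.spGL d F).mul_mem hg₁ ((Cfsg.spGL d F).inv_mem hg₀), ?_⟩
    apply mem_normalizer_of_commuteG K hgen
    have e1 : (((g₁ * g₀⁻¹)⁻¹ * x * (g₁ * g₀⁻¹) : GL (Fin d ⊕ Fin d) F) : Mat) =
        (g₀ : Mat) * Matrix.fromBlocks (Matrix.diagonal ε) 0 0 (Matrix.diagonal ε) *
          ((g₀⁻¹ : GL (Fin d ⊕ Fin d) F) : Mat) := by
      have e0 : (g₁ * g₀⁻¹)⁻¹ * x * (g₁ * g₀⁻¹) = g₀ * (g₁⁻¹ * x * g₁) * g₀⁻¹ := by group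
      rw [e0, ← hg₁x]
      simp only [Units.val_mul]
    rw [e1, hθeq]
    exact conj_comm_of_comm (diag_mul_Y0 _ δ)
  · -- x² = -1
    have hxa : AData (x : Mat) (-1) := by
      refine ⟨hx2, ?_⟩
      intro u v
      have h1 := (mem_spGL_iff x).1 hx u ((x : Mat) *ᵥ v)
      rw [Matrix.mulVec_mulVec, hx2, Matrix.smul_mulVec, Matrix.one_mulVec, neg_one_smul,
        sympForm_neg_right] at h1
      rw [← h1, neg_neg]
    obtain ⟨g₁, hg₁, hg₁x⟩ := exists_conj_Y0 h2 (neg_ne_zero.2 one_ne_zero) hxa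
      (exists_norm_eq h2 (-1) (neg_ne_zero.2 one_ne_zero))
    have hxeq := eq_conj_of_inv_conj hg₁x
    obtain ⟨a, b, hab⟩ := exists_norm_eq h2 (-1 : F) (neg_ne_zero.2 one_ne_zero) δ
    have hab' : a * a + b * b = δ := by rw [← hab]; ring
    obtain ⟨g₂, hg₂, hg₂S⟩ := exists_conj_Y0 h2 hδ (adata_Sab (d := d) a b δ hab')
      (exists_norm_eq h2 δ hδ)
    have hSeq := eq_conj_of_inv_conj hg₂S
    -- θ = h S h⁻¹ with h = g₀ g₂⁻¹
    refine ⟨g₁ * (g₀ * g₂⁻¹)⁻¹, (Cfsg.spGL d F).mul_mem hg₁ ((Cfsg.spGL d F).inv_mem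
      ((Cfsg.spGL d F).mul_mem hg₀ ((Cfsg.spGL d F).inv_mem hg₂))), ?_⟩
    apply mem_normalizer_of_anticomm K hθK hgen
    have e1 : (((g₁ * (g₀ * g₂⁻¹)⁻¹)⁻¹ * x * (g₁ * (g₀ * g₂⁻¹)⁻¹) : GL (Fin d ⊕ Fin d) F) : Mat) =
        ((g₀ * g₂⁻¹ : GL (Fin d ⊕ Fin d) F) : Mat) * Y0 d (-1 : F) *
          (((g₀ * g₂⁻¹)⁻¹ : GL (Fin d ⊕ Fin d) F) : Mat) := by
      have e0 : (g₁ * (g₀ * g₂⁻¹)⁻¹)⁻¹ * x * (g₁ * (g₀ * g₂⁻¹)⁻¹) =
          (g₀ * g₂⁻¹) * (g₁⁻¹ * x * g₁) * (g₀ * g₂⁻¹)⁻¹ := by group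
      rw [e0, ← hg₁x]
      simp only [Units.val_mul]
    have e2 : θ = ((g₀ * g₂⁻¹ : GL (Fin d ⊕ Fin d) F) : Mat) * Sab d a b *
          (((g₀ * g₂⁻¹)⁻¹ : GL (Fin d ⊕ Fin d) F) : Mat) := by
      have h3 : Y0 d δ = ((g₂⁻¹ : GL (Fin d ⊕ Fin d) F) : Mat) * Sab d a b * (g₂ : Mat) := hg₂S.symm
      rw [hθeq, h3]
      have e3 : ((g₀ * g₂⁻¹)⁻¹ : GL (Fin d ⊕ Fin d) F) = g₂ * g₀⁻¹ := by group
      rw [e3]
      simp only [Units.val_mul, mul_assoc]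
    rw [e1]
    conv_lhs => rw [e2]
    conv_rhs => rw [e2]
    exact conj_anticomm_of_anticomm (Y0_neg_one_mul_Sab a b)

/-- a nontrivial element of `Sp` of odd order `r` is not scalar -/
theorem not_scalar_of_pow_eq_one (h2 : (2 : F) ≠ 0) (hd : 1 ≤ d) {x : GL (Fin d ⊕ Fin d) F}
    (hx : x ∈ Cfsg.spGL d F) {r : ℕ} (hr : Odd r) (hxr : x ^ r = 1) (hx1 : x ≠ 1) (z : F) :
    (x : Mat) ≠ z • (1 : Mat) := by
  intro hz
  rcases scalar_sq_of_mem hd hx hz with rfl | rfl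
  · apply hx1
    apply Units.ext
    rw [hz, one_smul, Units.val_one]
  · have h1 : ((x ^ r : GL (Fin d ⊕ Fin d) F) : Mat) = 1 := by rw [hxr, Units.val_one]
    rw [Units.val_pow_eq_pow_val, hz, smul_pow, one_pow, hr.neg_one_pow] at h1
    have h3 := congrFun (congrFun h1 (Sum.inl ⟨0, hd⟩)) (Sum.inl ⟨0, hd⟩)
    rw [Matrix.smul_apply, Matrix.one_apply_eq, smul_eq_mul, mul_one] at h3
    apply h2
    have : (2 : F) = 1 - (-1) := by ring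
    rw [this, h3, sub_self]

/-- the derangement direction, from a non-commuting element -/
theorem false_of_derangement (h2 : (2 : F) ≠ 0) (hd : 1 ≤ d) {θ : Mat} {δ : F} (hs : SData θ δ)
    (K : Subalgebra F Mat) (hθK : θ ∈ K)
    (hgen : ∀ x ∈ K, ∃ a b : F, x = a • (1 : Mat) + b • θ) {r : ℕ} (hr : Odd r)
    (H : ∀ x ∈ Cfsg.spGL d F,
      (∃ z : F, ((x ^ r : GL (Fin d ⊕ Fin d) F) : Mat) = z • (1 : Mat)) →
      (∀ z : F, (x : Mat) ≠ z • (1 : Mat)) →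
      ∃ g ∈ Cfsg.spGL d F, g⁻¹ * x * g ∈ Cfsg.Geo.subalgebraNormalizer K)
    {x : GL (Fin d ⊕ Fin d) F} (hx : x ∈ Cfsg.spGL d F) (hxr : x ^ r = 1) (hx1 : x ≠ 1)
    (hxd : ∀ (θ' : Mat) (δ' : F), SData θ' δ' → (x : Mat) * θ' ≠ θ' * (x : Mat)) : False := by
  obtain ⟨g, hg, hgN⟩ := H x hx ⟨1, by rw [hxr, Units.val_one, one_smul]⟩
    (not_scalar_of_pow_eq_one h2 hd hx hr hxr hx1)
  have hpow : (g⁻¹ * x * g) ^ r = 1 := by
    have : g⁻¹ * x * g = g⁻¹ * x * g⁻¹⁻¹ := by rw [inv_inv]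
    rw [this, conj_pow, hxr, mul_one, inv_inv, inv_mul_cancel]
  have hcomm := comm_of_mem_normalizer hs K hθK hgen hgN hr (z := 1)
    (by rw [hpow, Units.val_one, one_smul])
  apply hxd _ δ (sdata_conj hs hg)
  -- x commutes with g θ g⁻¹
  have e1 : (x : Mat) = (g : Mat) * ((g⁻¹ * x * g : GL (Fin d ⊕ Fin d) F) : Mat) *
      ((g⁻¹ : GL (Fin d ⊕ Fin d) F) : Mat) := by
    have e0 : x = g * (g⁻¹ * x * g) * g⁻¹ := by group
    conv_lhs => rw [e0]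
    simp only [Units.val_mul]
  rw [e1]
  exact conj_comm_of_comm hcomm

/-- **S5976** -/
theorem main [Fintype F] {p : ℕ} [Fact p.Prime] [CharP F p] {q : ℕ} (hq : Fintype.card F = q)
    (hodd : Odd q) (hd : 2 ≤ d)
    (K : Subalgebra F Mat) (hK : Cfsg.Geo.IsFieldSubalgebra 2 K)
    (hKf : Cfsg.Geo.IsAdjointClosedFor (Cfsg.sympForm d F) K)
    (hKns : ¬ Cfsg.Geo.IsSelfAdjointFor (Cfsg.sympForm d F) K)
    (r : ℕ) [Fact r.Prime]
    (hΩ : r ∣ (Cfsg.Geo.subalgebraNormalizer K).relIndex (Cfsg.spGL d F)) :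
    (∀ x ∈ Cfsg.spGL d F,
      (∃ z : F, ((x ^ r : GL (Fin d ⊕ Fin d) F) : Mat) = z • (1 : Mat)) →
      (∀ z : F, (x : Mat) ≠ z • (1 : Mat)) →
      ∃ g ∈ Cfsg.spGL d F, g⁻¹ * x * g ∈ Cfsg.Geo.subalgebraNormalizer K) ↔ r = 2 := by
  subst hq
  have h2 : (2 : F) ≠ 0 := two_ne_zero_of_odd_card hodd
  have hd1 : 1 ≤ d := by omega
  have hrP : r.Prime := Fact.out
  obtain ⟨θ, δ, hθK, hs, hgen⟩ := exists_sdata h2 K hK hKf hKns
  have hδ : δ ≠ 0 := hs.delta_ne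
  constructor
  · intro H
    by_contra hr2
    have hrodd : Odd r := hrP.odd_of_ne_two hr2
    by_cases hrp : r = p
    · obtain ⟨x, hx, hxp, hxns, hxd⟩ := exists_tv_derangement (p := p) h2 hd1 hs K hθK hgen
      obtain ⟨g, hg, hgN⟩ := H x hx ⟨1, by rw [hrp, hxp, Units.val_one, one_smul]⟩ hxns
      exact hxd g hg hgN
    · have hstd := exists_conj_Y0 h2 hδ (adata_of_sdata hs) (exists_norm_eq h2 δ hδ)
      have hemb := guOrd_dvd_card_comm_Y0 (d := d) (rfl : Fintype.card F = Fintype.card F) h2 hs.irr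
      have hN := guOrd_dvd_card_normalizer rfl hs K hθK hgen hstd hemb
      rcases dvd_of_dvd_relIndex (p := p) rfl hd1 _ hN r hΩ with h | ⟨j, hj1, hjd, hj⟩
      · exact hrp h
      · have hq2 : 2 ≤ Fintype.card F := Fintype.one_lt_card
        rcases ord_cases hrP hr2 hq2 hj1 hjd hj with ⟨hi, hid⟩ | ⟨hi, hid⟩
        · obtain ⟨x, hx, hxr, hx1, hxd⟩ := exists_derangement_odd (p := p) h2 r hrp hr2 hi hid
          exact false_of_derangement h2 hd1 hs K hθK hgen hrodd H hx hxr hx1 hxd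
        · obtain ⟨x, hx, hxr, hx1, hxd⟩ := exists_derangement_four (p := p) h2 r hrp hr2 hi hid
          exact false_of_derangement h2 hd1 hs K hθK hgen hrodd H hx hxr hx1 hxd
  · rintro rfl x hx ⟨z, hz⟩ -
    exact invol_conj h2 hd1 hs K hθK hgen hx hz

end Cfsg.Agent.Helper43.EF
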